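import Cfsg.Agent.H713.B0R.Tool
import Cfsg.Agent.H682.EB.CoOneLoc
import Cfsg.Agent.H149.Sp.CopCoMain
import Cfsg.Agent.H813.CoSevenCard
import Cfsg.Agent.H568.RowTools

/-!
# `Co₁` : element orders and the automizer of a subgroup of order 11 (helper713)

* `not_63_dvd` : no element of order 63;
* `e11` : `|N(P) : C(P)| = 10` for a Sylow 11-subgroup `P`.
-/

set_option autoImplicit false

namespace Cfsg.Agent.H713.B0R.CoOne

open Cfsg Subgroup
open Cfsg.Agent.H682.EB.CoOne
open Cfsg.Agent.CoOneType.CoOneE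
open Cfsg.Agent.CoOneType.SignFacts
open Cfsg.Agent.SporadicA.Co0Mono
open Cfsg.Agent.SporadicA.Co1Simple
open Cfsg.Agent.SporadicA.GolayWalk (idx mem_M24_of_table)

universe u

/-! ### an element of `M₂₄` mapping the multiplication by 2 to its square -/

def tabT : List ℕ := [23, 22, 19, 14, 7, 9, 10, 2, 5, 11, 13, 4, 17, 15, 8, 12, 20, 1, 21, 3, 6, 18, 16, 0]

def tabI : List ℕ := [23, 17, 7, 19, 11, 8, 20, 4, 14, 5, 6, 9, 15, 10, 3, 13, 22, 12, 21, 2, 16, 18, 1, 0]

def unidx : ℕ → GolayPt := fun n => if n = 23 then none else some (n : ZMod 23)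

def tauPerm : Equiv.Perm GolayPt where
  toFun := fun p => unidx (tabT.getD (idx p) 0)
  invFun := fun p => unidx (tabI.getD (idx p) 0)
  left_inv := by decide +kernel
  right_inv := by decide +kernel

theorem tabT_spec : ∀ p : GolayPt, tabT.getD (idx p) 0 = idx (tauPerm p) := by
  decide +kernel

theorem tauPerm_mem : tauPerm ∈ M24 :=
  mem_M24_of_table tauPerm tabT rfl tabT_spec (by decide +kernel)

def tau : M24 := ⟨tauPerm, tauPerm_mem⟩

theorem tau_dbl : tau * dbl * tau⁻¹ = dbl ^ 2 := by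
  rw [mul_inv_eq_iff_eq_mul]
  apply Subtype.ext
  ext1 p
  revert p
  show ∀ p : GolayPt, tauPerm (dblPerm p) = dblPerm (dblPerm (tauPerm p))
  decide +kernel

theorem conj_sq : pr (permCo0 tau) * pr (permCo0 dbl) * (pr (permCo0 tau))⁻¹ = pr (permCo0 dbl) ^ 2 := by
  rw [← map_inv, ← map_mul, ← map_mul, ← map_inv, ← map_mul, ← map_mul, tau_dbl, map_pow, map_pow]

/-! ### the automizer -/

theorem conj_pow_iter {G : Type u} [Group G] {x g : G} {k : ℕ} (h : g * x * g⁻¹ = x ^ k) (n : ℕ) :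
    g ^ n * x * (g ^ n)⁻¹ = x ^ (k ^ n) := by
  induction n with
  | zero => simp
  | succ n ih =>
    have h1 : g ^ (n + 1) * x * (g ^ (n + 1))⁻¹ = g * (g ^ n * x * (g ^ n)⁻¹) * g⁻¹ := by
      rw [pow_succ']
      group
    rw [h1, ih, pow_succ, pow_mul', ← h]
    exact conj_pow.symm

/-- an element mapping a generator to its `k`-th power -/
theorem pow_relIndex {G : Type u} [Group G] [Finite G] {k : ℕ} (P : Subgroup G) {x g : G} (hx : zpowers x = P)
    (h : g * x * g⁻¹ = x ^ k) :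
    k ^ (centralizer (P : Set G)).relIndex (normalizer (P : Set G)) ≡ 1 [MOD orderOf x] := by
  subst hx
  have hg : g ∈ normalizer ((zpowers x : Subgroup G) : Set G) := by
    refine Subgroup.mem_normalizer_fintype ?_
    rintro _ ⟨m, rfl⟩
    show g * x ^ m * g⁻¹ ∈ zpowers x
    rw [← conj_zpow, h]
    exact zpow_mem (pow_mem (mem_zpowers x) k) m
  have hn : ((centralizer ((zpowers x : Subgroup G) : Set G)).subgroupOf
      (normalizer ((zpowers x : Subgroup G) : Set G))).Normal := by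
    rw [← normalizerMonoidHom_ker]
    infer_instance
  have h1 := Subgroup.pow_index_mem ((centralizer ((zpowers x : Subgroup G) : Set G)).subgroupOf
    (normalizer ((zpowers x : Subgroup G) : Set G))) ⟨g, hg⟩
  have h2 : g ^ (centralizer ((zpowers x : Subgroup G) : Set G)).relIndex
      (normalizer ((zpowers x : Subgroup G) : Set G)) ∈ centralizer ((zpowers x : Subgroup G) : Set G) :=
    mem_subgroupOf.1 h1
  have h3 := mem_centralizer_iff.1 h2 x (mem_zpowers x)
  have h4 := conj_pow_iter h ((centralizer ((zpowers x : Subgroup G) : Set G)).relIndex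
    (normalizer ((zpowers x : Subgroup G) : Set G)))
  rw [← h3, mul_inv_cancel_right] at h4
  have h5 : x ^ 1 = x ^ (k ^ (centralizer ((zpowers x : Subgroup G) : Set G)).relIndex
      (normalizer ((zpowers x : Subgroup G) : Set G))) := by rw [pow_one]; exact h4
  exact (pow_eq_pow_iff_modEq.1 h5).symm

theorem finite_co1 : Finite Spor.Co1 := Nat.finite_of_card_ne_zero (by rw [card_co1]; norm_num)

/-- the automizer of a Sylow 11-subgroup of `Co₁` has order 10 -/
theorem e11 {T : Type u} [Group T] [Finite T] (h : Spor.IsoCo1 T) (P : Sylow 11 T) :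
    (centralizer (P : Set T)).relIndex (normalizer (P : Set T)) = 11 - 1 := by
  have h11 : Fact (Nat.Prime 11) := ⟨by norm_num⟩
  have hcard := card_of_co1 h
  obtain ⟨e⟩ := h
  have hP : Nat.card P = 11 := H852.RatB.card_sylow_of_not_sq (by rw [hcard]; norm_num) (by rw [hcard]; norm_num) P
  -- an element of order 11 mapped to its square
  obtain ⟨x₀, hx₀⟩ : ∃ x₀ : T, x₀ = e.symm (pr (permCo0 dbl)) := ⟨_, rfl⟩
  obtain ⟨g₀, hg₀⟩ : ∃ g₀ : T, g₀ = e.symm (pr (permCo0 tau)) := ⟨_, rfl⟩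
  have ho : orderOf x₀ = 11 := by rw [hx₀, MulEquiv.orderOf_eq, w_order]
  have hc : g₀ * x₀ * g₀⁻¹ = x₀ ^ 2 := by
    rw [hg₀, hx₀, ← map_inv, ← map_mul, ← map_mul, conj_sq, map_pow]
  -- conjugate into `P`
  have hpg : IsPGroup 11 (zpowers x₀) := IsPGroup.of_card (n := 1) (by rw [Nat.card_zpowers, ho, pow_one])
  obtain ⟨Q, hQ⟩ := hpg.exists_le_sylow
  obtain ⟨s, hs⟩ := MulAction.exists_smul_eq T Q P
  have hsx : s * x₀ * s⁻¹ ∈ (P : Subgroup T) := by
    have h1 : MulAut.conj s x₀ ∈ (s • Q : Sylow 11 T) := by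
      rw [Sylow.smul_def]
      exact smul_mem_pointwise_smul _ _ _ (hQ (mem_zpowers x₀))
    rw [hs] at h1
    exact h1
  have hso : orderOf (s * x₀ * s⁻¹) = 11 := by rw [H568.orderOf_conj', ho]
  have hz : zpowers (s * x₀ * s⁻¹) = (P : Subgroup T) := by
    apply eq_of_le_of_card_ge
    · rwa [zpowers_le]
    · rw [Nat.card_zpowers, hso]
      exact hP.le
  have hc' : (s * g₀ * s⁻¹) * (s * x₀ * s⁻¹) * (s * g₀ * s⁻¹)⁻¹ = (s * x₀ * s⁻¹) ^ 2 := by
    rw [conj_pow, ← hc]
    group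
  have h1 := pow_relIndex (P : Subgroup T) hz hc'
  rw [hso] at h1
  have h2 := SmallSimple.BurnsideNC.relIndex_dvd_of_card_eq_prime P hP
  have h3 : (centralizer (P : Set T)).relIndex (normalizer (P : Set T)) ∈ Nat.divisors 10 :=
    Nat.mem_divisors.2 ⟨h2, by norm_num⟩
  generalize (centralizer (P : Set T)).relIndex (normalizer (P : Set T)) = m at h1 h3
  have h4 : Nat.divisors 10 = {1, 2, 5, 10} := by decide
  rw [h4] at h3
  simp only [Finset.mem_insert, Finset.mem_singleton] at h3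
  rcases h3 with rfl | rfl | rfl | rfl
  · exact absurd h1 (by decide)
  · exact absurd h1 (by decide)
  · exact absurd h1 (by decide)
  · rfl

/-! ### no element of order 63 -/

theorem co0_no {a b : Co0} (ha : orderOf a = 7) (hb : orderOf b = 9) (hab : a * b = b * a) : False := by
  have hfin : Finite Co0 := Cfsg.Agent.CoOneType.FrameFix.finite_co0
  have hbC : b ∈ centralizer ({a} : Set Co0) := mem_centralizer_singleton_iff.2 hab.symm
  by_cases hfree : ∀ v : leechLattice, a • v = v → v = 0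
  · have h1 := H813.CoSevenCard.cube ha hfree (g := ⟨b, hbC⟩) (n := 2)
      (Subtype.ext (by
        show b ^ 3 ^ 2 = 1
        rw [show (3 : ℕ) ^ 2 = 9 by norm_num, ← hb, pow_orderOf_eq_one]))
    have h2 : b ^ 3 = 1 := congrArg Subtype.val h1
    have h3 := orderOf_dvd_of_pow_eq_one h2
    rw [hb] at h3
    exact absurd h3 (by norm_num)
  · push Not at hfree
    obtain ⟨v, hav, hv⟩ := hfree
    refine Cfsg.Agent.H149.Sp.CopCo.no_9 ha hv hav (Subgroup.subtype_injective (centralizer ({a} : Set Co0)))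
      (Cfsg.Agent.H149.Sp.CopCo.comm_cent a) ?_
    rw [← hb]
    exact Subgroup.orderOf_dvd_natCard _ hbC

theorem co1_no {s t : Spor.Co1} (hs : orderOf s = 7) (ht : orderOf t = 9) (hst : s * t = t * s) : False := by
  obtain ⟨a, rfl, ha⟩ := Cfsg.Agent.H149.Sp.CopCo.exists_lift (by norm_num) (by norm_num) hs
  obtain ⟨b, rfl, hb⟩ := Cfsg.Agent.LThreeBX.NoSeven.exists_odd (n := 9) (by decide)
    (show t ^ 9 = 1 by rw [← ht, pow_orderOf_eq_one])
  have hb' : orderOf b = 9 := by
    have h1 : orderOf b ∣ 9 := orderOf_dvd_of_pow_eq_one hb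
    have h2 := orderOf_map_dvd (QuotientGroup.mk' (Subgroup.center Co0)) b
    have h3 : orderOf (QuotientGroup.mk' (Subgroup.center Co0) b) = 9 := ht
    rw [h3] at h2
    exact Nat.dvd_antisymm h1 h2
  exact co0_no ha hb' (Cfsg.Agent.LThreeBX.NoSeven.comm_of_mk (n := 7) (by decide)
    (by rw [← ha, pow_orderOf_eq_one]) hst)

theorem not_63_dvd {T : Type u} [Group T] [Finite T] (h : Spor.IsoCo1 T) (z : T) : ¬ 63 ∣ orderOf z := by
  obtain ⟨e⟩ := h
  intro hz
  have h0 : orderOf z ≠ 0 := (orderOf_pos z).ne'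
  have h1 : orderOf (z ^ (orderOf z / 7)) = 7 := orderOf_pow_orderOf_div h0 (dvd_trans (by norm_num) hz)
  have h2 : orderOf (z ^ (orderOf z / 9)) = 9 := orderOf_pow_orderOf_div h0 (dvd_trans (by norm_num) hz)
  have h3 : Commute (z ^ (orderOf z / 7)) (z ^ (orderOf z / 9)) := (Commute.refl z).pow_pow _ _
  exact co1_no (by rw [MulEquiv.orderOf_eq, h1]) (by rw [MulEquiv.orderOf_eq, h2]) (h3.map e).eq

/-- no elements of order `l l'` for different `l, l' ∈ {11, 13, 23}` -/
theorem ne_mul {T : Type u} [Group T] [Finite T] (h : Spor.IsoCo1 T) {p q : ℕ} (hp : Cfsg.Agent.H149.Sp.P5 p)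
    (hq : Cfsg.Agent.H149.Sp.P5 q) (hpq : p < q) (h57 : ¬ (p = 5 ∧ q = 7)) (z : T) : orderOf z ≠ p * q := by
  obtain ⟨e⟩ := h
  intro hz
  have h0 : orderOf z ≠ 0 := (orderOf_pos z).ne'
  have h1 : orderOf (z ^ (orderOf z / p)) = p := orderOf_pow_orderOf_div h0 (hz ▸ dvd_mul_right p q)
  have h2 : orderOf (z ^ (orderOf z / q)) = q := orderOf_pow_orderOf_div h0 (hz ▸ dvd_mul_left q p)
  have h3 : Commute (z ^ (orderOf z / p)) (z ^ (orderOf z / q)) := (Commute.refl z).pow_pow _ _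
  exact Cfsg.Agent.H149.Sp.co1_not_comm hp hq hpq h57 (s := e (z ^ (orderOf z / p))) (t := e (z ^ (orderOf z / q)))
    (by rw [MulEquiv.orderOf_eq, h1]) (by rw [MulEquiv.orderOf_eq, h2]) (h3.map e).eq

end Cfsg.Agent.H713.B0R.CoOne
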