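import Cfsg.Agent.H713.B0R.FiTF

/-!
# `Fi₂₄` has no element of order 117 (helper713)
-/

set_option autoImplicit false
set_option linter.constructorNameAsVariable false
set_option maxRecDepth 100000

namespace Cfsg.Agent.H713.B0R.FiTF

open Cfsg Subgroup Cfsg.Agent.Fischer Cfsg.Agent.Lib.PermNet Cfsg.Agent.Lib.PermNetPt
open Cfsg.Agent.Fischer.Fi24RepDef Cfsg.Agent.Fischer.Fi24Rep
open Cfsg.Agent.Fischer.Fi24RepOrb (UG)
open Cfsg.Agent.Fischer.Fi24Spider (word_append word_cons word_nil)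
open Cfsg.Agent.R08.FiTwentyFour (L finite_Fi24)
open Cfsg.Agent.KFacts.FiTF.Pts Cfsg.Agent.KFacts.FiTF.FixMask Cfsg.Agent.H843.Pat Cfsg.Agent.H843.Fi24N
open Cfsg.Spor (Fi24 Fi23)
open Cfsg.Spor.Fi24 (Gen)

/-- the word carrying `l` to the point 23 -/
def w23 : List Gen := [.j, .g, .f, .e, .d, .h, .c, .d, .e, .b, .c, .d, .h, .f, .g, .e, .f, .d, .e, .c, .d, .h, .j, .g,
  .f, .e, .d, .c, .a, .b, .k, .a, .l, .k]

theorem chk23 : chkPt (nw w23 false) 0 23 = true := by decide +kernel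

theorem chk23x : chkPt (nw xw false) 23 23 = true := by decide +kernel

theorem chk23l : chkPt (nw [.l] false) 23 23 = true := by decide +kernel

/-- the transposition at the point 23 -/
noncomputable def t23 : Fi24 := word w23 * gen .l * (word w23)⁻¹

theorem isPt23 : IsPt t23 23 := ⟨word w23, rho_of_chkPt chk23, rfl⟩

theorem t23_x : word xw * t23 = t23 * word xw := (isPt23.comm_iff _).2 (rho_of_chkPt chk23x)

theorem t23_l : gen .l * t23 = t23 * gen .l := by
  refine (isPt23.comm_iff _).2 ?_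
  have h := rho_of_chkPt chk23l
  rwa [word_cons, word_nil, mul_one] at h

theorem chk_lk : chkPt (nw [.l] false) 307840 307872 = true := by decide +kernel

theorem gen_l_ne : (gen .l : Fi24) ≠ 1 := by
  intro h
  have h1 := rho_of_chkPt chk_lk
  rw [word_cons, word_nil, mul_one, h, map_one] at h1
  exact absurd h1 (by norm_num)

theorem t23_ne : t23 ≠ gen .l := by
  intro h
  have h1 := isPt23
  rw [h] at h1
  exact absurd (h1.uniq (isPt_gen .l)) (by decide)

/-- the cube of an element of order 9 commuting with `x` commutes with the six transpositions -/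
theorem cube_comm {y : Fi24} (hy : y ^ 9 = 1) (hxy : y * word xw = word xw * y) {t : Fi24} (ht : t ∈ L)
    (htx : t * word xw = word xw * t) : Commute (y ^ 3) t := by
  have hc : ∀ i : ℕ, (y ^ i * t * (y ^ i)⁻¹) * word xw = word xw * (y ^ i * t * (y ^ i)⁻¹) := by
    intro i
    have h1 : Commute (y ^ i) (word xw) := (show Commute y (word xw) from hxy).pow_left i
    have h2 : Commute t (word xw) := htx
    exact ((h1.mul_left h2).mul_left h1.inv_left).eq
  have hm : ∀ i : ℕ, y ^ i * t * (y ^ i)⁻¹ ∈ L := fun i => Cfsg.Agent.R08.FiTwentyFour.conj ht _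
  choose f hf hfp using fun i : ℕ => sieve_mem (xw := xw) sieve (hm i) (hc i)
  have hlt : ([0, 23, 29451, 29731, 307840, 307872] : List ℕ).toFinset.card < (Finset.range 9).card := by decide
  obtain ⟨i, hi, j, hj, hij, he⟩ := Finset.exists_ne_map_eq_of_card_lt_of_maps_to hlt
    (f := f) (fun i _ => List.mem_toFinset.2 (hf i))
  have key : ∀ i j : ℕ, i < j → j < 9 → f i = f j → Commute (y ^ 3) t := by
    intro i j hij hj he
    have h1 : y ^ i * t * (y ^ i)⁻¹ = y ^ j * t * (y ^ j)⁻¹ := (hfp i).inj (he ▸ hfp j)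
    obtain ⟨k, rfl⟩ : ∃ k, j = i + k := ⟨j - i, by omega⟩
    have h2 : Commute (y ^ k) t := by
      rw [pow_add] at h1
      have h3 : t = y ^ k * t * (y ^ k)⁻¹ := by
        have h4 : (y ^ i)⁻¹ * (y ^ i * t * (y ^ i)⁻¹) * y ^ i =
            (y ^ i)⁻¹ * (y ^ i * y ^ k * t * (y ^ i * y ^ k)⁻¹) * y ^ i := by rw [h1]
        calc t = (y ^ i)⁻¹ * (y ^ i * t * (y ^ i)⁻¹) * y ^ i := by group
          _ = (y ^ i)⁻¹ * (y ^ i * y ^ k * t * (y ^ i * y ^ k)⁻¹) * y ^ i := h4
          _ = _ := by group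
      calc y ^ k * t = (y ^ k * t * (y ^ k)⁻¹) * y ^ k := by group
        _ = _ := by rw [← h3]
    have h5 : ∃ m : ℕ, k * m % 9 = 3 := by
      have hk1 : 0 < k := by omega
      have hk2 : k < 9 := by omega
      interval_cases k
      · exact ⟨3, rfl⟩
      · exact ⟨6, rfl⟩
      · exact ⟨1, rfl⟩
      · exact ⟨3, rfl⟩
      · exact ⟨6, rfl⟩
      · exact ⟨2, rfl⟩
      · exact ⟨3, rfl⟩
      · exact ⟨6, rfl⟩
    obtain ⟨m, hm⟩ := h5
    have h6 := h2.pow_left m
    rwa [← pow_mul, ← Nat.div_add_mod (k * m) 9, pow_add, pow_mul, hy, one_pow, one_mul, hm] at h6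
  rw [Finset.mem_range] at hi hj
  rcases Nat.lt_or_gt_of_ne hij with h | h
  · exact key i j h hj he
  · exact key j i h hi he.symm

theorem perm3 : ∀ σ ρ : Equiv.Perm (Fin 3), σ ^ 3 = 1 → σ ≠ 1 → ρ ^ 2 = 1 → ρ ≠ 1 → σ * ρ ≠ ρ * σ := by decide

/-- in `Fi₂₃` no elements of orders 2 and 3 commute with each other and with an element of order 13 -/
theorem fi23_no6 {x w v : Fi23} (hx : orderOf x = 13) (hw : orderOf w = 3) (hv : orderOf v = 2)
    (hwx : Commute w x) (hvx : Commute v x) (hwv : Commute w v) : False := by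
  obtain ⟨g, hg⟩ := H839.Fi23.conj_all13 (zpowers x) (zpowers (Cfsg.Agent.LThreeFi23.elw Cfsg.Agent.LThreeFi23.y13))
    (by rw [Nat.card_zpowers, hx]) H839.Fi23.card_y13
  set Y := Cfsg.Agent.LThreeFi23.elw Cfsg.Agent.LThreeFi23.y13 with hY
  have h1 : Y ∈ (zpowers x).map (MulAut.conj g).toMonoidHom := by rw [hg]; exact mem_zpowers _
  obtain ⟨_, ⟨m, rfl⟩, h2⟩ := h1
  have h3 : g * x ^ m * g⁻¹ = Y := h2
  have cj : ∀ {a b : Fi23}, Commute a b → Commute (g * a * g⁻¹) (g * b * g⁻¹) := fun hab =>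
    hab.map (MulAut.conj g).toMonoidHom
  have ho : ∀ a : Fi23, orderOf (g * a * g⁻¹) = orderOf a := fun a => MulEquiv.orderOf_eq (MulAut.conj g) a
  have key : ∀ {a : Fi23}, Commute a x → a ^ 12 = 1 → g * a * g⁻¹ ∈ Cfsg.Agent.H838.Fi23.SL H839.Fi23.L3 := by
    intro a ha h12
    have h4 : Commute (g * a * g⁻¹) Y := by
      rw [← h3]
      exact cj (ha.zpow_right m)
    obtain ⟨i, s, hs, h5⟩ := H839.Fi23.cent13 h4.eq
    have h6 : Commute (Y ^ i) s := (show Commute Y s from H839.Fi23.S3_comm_y13 hs).zpow_left i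
    have h7 : (Y ^ i) ^ 13 = 1 := by
      have h8 : Y ^ 13 = 1 := Cfsg.Agent.LThreeFi23.pow13
      rw [← zpow_natCast, ← zpow_mul, mul_comm, zpow_mul, zpow_natCast, h8, one_zpow]
    have h9 : g * a * g⁻¹ = s ^ 13 := by
      calc g * a * g⁻¹ = (g * a * g⁻¹) ^ 13 := by
            rw [conj_pow, pow_succ, h12, one_mul]
        _ = s ^ 13 := by rw [h5, h6.mul_pow, h7, one_mul]
    rw [h9]
    exact pow_mem hs 13
  obtain ⟨e⟩ := H839.Fi23.S3_equiv
  have hw' := key hwx (by rw [show 12 = 3 * 4 by norm_num, pow_mul, ← hw, pow_orderOf_eq_one, one_pow])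
  have hv' := key hvx (by rw [show 12 = 2 * 6 by norm_num, pow_mul, ← hv, pow_orderOf_eq_one, one_pow])
  have ow : orderOf (e ⟨_, hw'⟩) = 3 := by rw [MulEquiv.orderOf_eq, Subgroup.orderOf_mk, ho, hw]
  have ov : orderOf (e ⟨_, hv'⟩) = 2 := by rw [MulEquiv.orderOf_eq, Subgroup.orderOf_mk, ho, hv]
  refine perm3 (e ⟨_, hw'⟩) (e ⟨_, hv'⟩) ?_ ?_ ?_ ?_ ?_
  · have h := pow_orderOf_eq_one (e ⟨_, hw'⟩)
    rwa [ow] at h
  · intro h; rw [h, orderOf_one] at ow; omega
  · have h := pow_orderOf_eq_one (e ⟨_, hv'⟩)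
    rwa [ov] at h
  · intro h; rw [h, orderOf_one] at ov; omega
  · rw [← map_mul, ← map_mul]
    congr 1
    exact Subtype.ext (cj hwv).eq

theorem exists_fi23i : ∃ φ : Fi23 →* Fi24, Function.Injective φ ∧ φ.range ≤ centralizer ({gen .l} : Set Fi24) ∧
    (φ.range.subgroupOf (centralizer ({gen .l} : Set Fi24))).index = 2 := by
  have hfin : Finite Fi24 := finite_Fi24
  obtain ⟨φ, hφ, hφH, -⟩ := Cfsg.Agent.H13.RankFi24.exists_phi
  set C := centralizer ({gen .l} : Set Fi24) with hC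
  have hle : φ.range ≤ C := by
    intro w hw
    rw [hC, mem_centralizer_singleton_iff]
    have hw' : w ∈ Subgroup.closure (gen '' {x | x ≠ .k}) := by
      have h0 := hφH hw
      rwa [Cfsg.Agent.Fischer.Fi24RepOrb.H, Cfsg.Agent.Fischer.Fi24RepOrb.S1_eq] at h0
    exact Cfsg.Agent.Fischer.Fi24Class.comm_of_mem_closure {x | x ≠ .k} (fun h => h rfl) w hw'
  refine ⟨φ, hφ, hle, ?_⟩
  have h97 := Cfsg.Agent.S1697.result
  have hcR : Nat.card φ.range = 4089470473293004800 := by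
    rw [← Nat.card_congr (MonoidHom.ofInjective hφ).toEquiv]
    exact h97.2
  have h3 := (φ.range.subgroupOf C).index_mul_card
  rw [Nat.card_congr (Subgroup.subgroupOfEquivOfLe hle).toEquiv, hcR, card_cent_l] at h3
  exact Nat.eq_of_mul_eq_mul_right (by norm_num) h3

/-- **`Fi₂₄` has no commuting elements of orders 13 and 9.** -/
theorem no117 {x y : Fi24} (hx : orderOf x = 13) (hy : orderOf y = 9) (hxy : x * y = y * x) : False := by
  have hfin : Finite Fi24 := finite_Fi24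
  have h13 : Fact (Nat.Prime 13) := ⟨by norm_num⟩
  obtain ⟨P, hP⟩ := H377.SporRow.exists_cyclic (K := Fi24) (p := 13) (by rw [card_Fi24']; norm_num)
  obtain ⟨s, hs, -⟩ := H568.conj_of_cyclic P hP hx (word xw) order13
  obtain ⟨i, hi⟩ := hs
  have hi' : (s * x * s⁻¹) ^ i = word xw := hi
  have hc' : Commute (s * y * s⁻¹) (s * x * s⁻¹) := by
    show s * y * s⁻¹ * (s * x * s⁻¹) = s * x * s⁻¹ * (s * y * s⁻¹)
    calc s * y * s⁻¹ * (s * x * s⁻¹) = s * (y * x) * s⁻¹ := by group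
      _ = s * (x * y) * s⁻¹ := by rw [hxy]
      _ = _ := by group
  have hy' : orderOf (s * y * s⁻¹) = 9 := by rw [H568.orderOf_conj', hy]
  have h1 : Commute (s * y * s⁻¹) (word xw) := by
    rw [← hi']
    exact hc'.zpow_right i
  generalize s * y * s⁻¹ = y' at hy' h1
  have h9 : y' ^ 9 = 1 := by rw [← hy', pow_orderOf_eq_one]
  have cl : Commute (y' ^ 3) (gen .l) := cube_comm h9 h1.eq gen_l_mem comm_l.symm
  have ct : Commute (y' ^ 3) t23 := cube_comm h9 h1.eq isPt23.mem t23_x.symm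
  have o3 : orderOf (y' ^ 3) = 3 := by
    rw [orderOf_pow_of_dvd (by norm_num) (by rw [hy']; norm_num), hy']
  obtain ⟨φ, hφ, hle, hind⟩ := exists_fi23i
  have hodd : ∀ z : Fi24, z * gen .l = gen .l * z → Odd (orderOf z) → z ∈ φ.range := by
    rintro z hz ⟨k, hk⟩
    have hzC : z ^ (k + 1) ∈ centralizer ({gen .l} : Set Fi24) :=
      Subgroup.pow_mem _ (mem_centralizer_singleton_iff.2 hz) _
    have h4 := Subgroup.sq_mem_of_index_two hind ⟨z ^ (k + 1), hzC⟩
    have h5 : (z ^ (k + 1)) ^ 2 = z := by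
      rw [← pow_mul, show (k + 1) * 2 = (2 * k + 1) + 1 by ring, pow_succ, ← hk, pow_orderOf_eq_one, one_mul]
    have h6 : (z ^ (k + 1)) ^ 2 ∈ φ.range := h4
    rwa [h5] at h6
  obtain ⟨a, ha⟩ := hodd _ comm_l (by rw [order13]; decide)
  obtain ⟨b, hb⟩ := hodd _ cl.eq (by rw [o3]; decide)
  have hlC : gen .l ∈ centralizer ({gen .l} : Set Fi24) := mem_centralizer_singleton_iff.2 rfl
  have htC : t23 ∈ centralizer ({gen .l} : Set Fi24) := mem_centralizer_singleton_iff.2 t23_l.symm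
  have sql : gen .l * gen .l = 1 := Cfsg.Agent.R08.FiTwentyFour.sq gen_l_mem
  have sqt : t23 * t23 = 1 := Cfsg.Agent.R08.FiTwentyFour.sq isPt23.mem
  have ne1 : ∀ {d : Fi24}, d ∈ L → d ≠ 1 := by
    rintro d hd rfl
    exact gen_l_ne (isConj_one_left.1 (show IsConj (gen .l) 1 from hd))
  -- an involution of the range
  obtain ⟨u, hu, hu1, hu2, hux, huy⟩ : ∃ u : Fi24, u ∈ φ.range ∧ u ≠ 1 ∧ u ^ 2 = 1 ∧ Commute u (word xw) ∧
      Commute u (y' ^ 3) := by
    by_cases h5 : gen .l ∈ φ.range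
    · exact ⟨_, h5, ne1 gen_l_mem, by rw [pow_two, sql], comm_l.symm, cl.symm⟩
    by_cases h6 : t23 ∈ φ.range
    · exact ⟨_, h6, ne1 isPt23.mem, by rw [pow_two, sqt], t23_x.symm, ct.symm⟩
    refine ⟨gen .l * t23, ?_, ?_, ?_, ?_, ?_⟩
    · have h7 := Subgroup.mul_mem_iff_of_index_two hind (a := ⟨_, hlC⟩) (b := ⟨_, htC⟩)
      have h8 := h7.2 (by
        rw [Subgroup.mem_subgroupOf, Subgroup.mem_subgroupOf]
        exact iff_of_false h5 h6)
      exact h8
    · intro h7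
      apply t23_ne
      calc t23 = gen .l * gen .l * t23 := by rw [sql, one_mul]
        _ = gen .l * (gen .l * t23) := by rw [mul_assoc]
        _ = gen .l := by rw [h7, mul_one]
    · rw [(show Commute (gen .l) t23 from t23_l).mul_pow, pow_two, pow_two, sql, sqt, one_mul]
    · exact (show Commute (gen .l) (word xw) from comm_l.symm).mul_left (show Commute t23 (word xw) from t23_x.symm)
    · exact cl.symm.mul_left ct.symm
  obtain ⟨v, hv⟩ := hu
  have cinj : ∀ {p q : Fi23}, Commute (φ p) (φ q) → Commute p q := fun {p q} h => hφ (by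
    rw [map_mul, map_mul]; exact h.eq)
  refine fi23_no6 (x := a) (w := b) (v := v) ?_ ?_ ?_ ?_ ?_ ?_
  · rw [← orderOf_injective φ hφ, ha, order13]
  · rw [← orderOf_injective φ hφ, hb, o3]
  · rw [← orderOf_injective φ hφ, hv]
    have : Fact (Nat.Prime 2) := ⟨Nat.prime_two⟩
    exact orderOf_eq_prime hu2 hu1
  · apply cinj
    rw [hb, ha]
    exact h1.pow_left 3
  · apply cinj
    rw [hv, ha]
    exact hux
  · apply cinj
    rw [hb, hv]
    exact huy.symm

/-- **`Fi₂₄'` has no element of order divisible by 117** -/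
theorem not_117_dvd {T : Type*} [Group T] [Finite T] (h : Spor.IsoFi24' T) (z : T) : ¬ 117 ∣ orderOf z := by
  obtain ⟨e⟩ := h
  intro hz
  have h0 : orderOf z ≠ 0 := (orderOf_pos z).ne'
  have h1 : orderOf (z ^ (orderOf z / 13)) = 13 := orderOf_pow_orderOf_div h0 (dvd_trans (by norm_num) hz)
  have h2 : orderOf (z ^ (orderOf z / 9)) = 9 := orderOf_pow_orderOf_div h0 (dvd_trans (by norm_num) hz)
  have h3 : Commute (z ^ (orderOf z / 13)) (z ^ (orderOf z / 9)) := (Commute.refl z).pow_pow _ _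
  refine no117 (x := (e (z ^ (orderOf z / 13)) : Fi24)) (y := (e (z ^ (orderOf z / 9)) : Fi24)) ?_ ?_ ?_
  · rw [Subgroup.orderOf_coe, MulEquiv.orderOf_eq, h1]
  · rw [Subgroup.orderOf_coe, MulEquiv.orderOf_eq, h2]
  · exact congrArg Subtype.val (h3.map e).eq

end Cfsg.Agent.H713.B0R.FiTF
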