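import Cfsg.Agent.H713.B0R.FiTF
import Cfsg.Agent.H713.B0R.Tool
import Cfsg.Agent.H494.B0R.Inst
import Cfsg.Agent.H293.DS.Fi24Facts
import Cfsg.Agent.H153.Cov.Fi24
import Cfsg.Agent.H968.Rat.RowFi
import Cfsg.Agent.H646.BR.Congr

/-!
# Rows of `Fi₂₄'` for 11, 13, 17, 23, 29 (helper713)
-/

set_option autoImplicit false
set_option maxRecDepth 100000

namespace Cfsg.Agent.H713.B0R.FiTF

open Cfsg Subgroup Cfsg.Agent.H145.BR Cfsg.Agent.H713.B0R Cfsg.Agent.H537.Cop
open Cfsg.Spor (Fi24 Fi24')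

universe u

/-- self-centralizing elements of order `p` -/
theorem orderOf_of_sc {p : ℕ} (_hp : p.Prime) {T : Type*} [Group T] [Finite T] (h : SC p T) {z : T}
    (hz : p ∣ orderOf z) : orderOf z ∣ p := by
  have h0 : orderOf z ≠ 0 := (orderOf_pos z).ne'
  have h1 : orderOf (z ^ (orderOf z / p)) = p := orderOf_pow_orderOf_div h0 hz
  have h2 := h _ h1
  have h3 : z ∈ centralizer ({z ^ (orderOf z / p)} : Set T) :=
    mem_centralizer_singleton_iff.2 ((Commute.refl z).pow_right _).eq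
  have h4 := Subgroup.orderOf_dvd_natCard _ h3
  rwa [h2] at h4

theorem card_eq {T : Type u} [Group T] (h : Spor.IsoFi24' T) :
    Nat.card T = 2 ^ 21 * 3 ^ 16 * 5 ^ 2 * 7 ^ 3 * 11 * 13 * 17 * 23 * 29 := by
  rw [H293.DS.card_fi24 h]
  norm_num

theorem ne_143 {T : Type u} [Group T] (h : Spor.IsoFi24' T) (z : T) : orderOf z ≠ 11 * 13 := by
  obtain ⟨e⟩ := h
  have hfin : Finite Fi24 := R08.FiTwentyFour.finite_Fi24
  refine H257.El.noOrd_congr e (H257.El.noOrd_of_noComm (by norm_num) (by norm_num) fun x y hx hy hxy => ?_) z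
  have h1 := H153.Cov.dvd_cent (K := Fi24) (l := 11) (by norm_num) (by rw [H843.Fi24N.card_Fi24]; norm_num)
    H843.D11.order rfl (x := (x : Fi24)) (y := (y : Fi24)) (by rw [Subgroup.orderOf_coe, hx])
    (congrArg Subtype.val hxy)
  rw [Subgroup.orderOf_coe, hy] at h1
  have h2 := h1.trans (Subgroup.card_dvd_of_le (centralizer_le_normalizer
    ((zpowers H843.D11.D.x : Subgroup Fi24) : Set Fi24)))
  rw [H843.D11.main] at h2
  exact absurd h2 (by norm_num)

theorem rows_11_13 {T : Type u} [Group T] [Finite T] (h : Spor.IsoFi24' T) (f11 : FrobAt 11 T) (f13 : FrobAt 13 T) :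
    RowZ 11 T ∧ RowZ 13 T := by
  have hcard := H293.DS.card_fi24 h
  have := Fact.mk (show Nat.Prime 11 by norm_num)
  have := Fact.mk (show Nat.Prime 13 by norm_num)
  have h11 : 11 ∣ Nat.card T := by rw [hcard]; norm_num
  have h11' : ¬ 11 ^ 2 ∣ Nat.card T := by rw [hcard]; norm_num
  have h13 : 13 ∣ Nat.card T := by rw [hcard]; norm_num
  have h13' : ¬ 13 ^ 2 ∣ Nat.card T := by rw [hcard]; norm_num
  refine rowZ_of_pair (p := 11) (q := 13) (by norm_num) (by norm_num) (by norm_num) (by norm_num) (by norm_num)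
    h11 h11' h13 h13' ?_ ?_ ?_ f11 f13 ?_
  · exact fun P => cond_of_prim P (H852.RatB.card_sylow_of_not_sq h11 h11' P) (by decide)
  · exact fun P => cond_of_prim P (H852.RatB.card_sylow_of_not_sq h13 h13' P) (by decide)
  · exact ne_143 h
  · refine H494.B0R.Fi24_11_13 (card_eq h) ?_
    intro g d hd
    rw [List.mem_singleton] at hd
    subst hd
    intro hd
    have h1 := orderOf_of_sc (by norm_num) (H293.DS.sc29 h) (z := g) (dvd_trans (by norm_num) hd)
    exact absurd (hd.trans h1) (by norm_num)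

theorem rows_17_23 {T : Type u} [Group T] [Finite T] (h : Spor.IsoFi24' T) (f17 : FrobAt 17 T) (f23 : FrobAt 23 T) :
    RowZ 17 T ∧ RowZ 23 T := by
  have hcard := H293.DS.card_fi24 h
  have := Fact.mk (show Nat.Prime 17 by norm_num)
  have := Fact.mk (show Nat.Prime 23 by norm_num)
  have h17 : 17 ∣ Nat.card T := by rw [hcard]; norm_num
  have h17' : ¬ 17 ^ 2 ∣ Nat.card T := by rw [hcard]; norm_num
  have h23 : 23 ∣ Nat.card T := by rw [hcard]; norm_num
  have h23' : ¬ 23 ^ 2 ∣ Nat.card T := by rw [hcard]; norm_num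
  refine rowZ_of_pair (p := 17) (q := 23) (by norm_num) (by norm_num) (by norm_num) (by norm_num) (by norm_num)
    h17 h17' h23 h23' ?_ ?_ ?_ f17 f23 ?_
  · exact fun P => cond_of_prim P (H852.RatB.card_sylow_of_not_sq h17 h17' P) (by decide)
  · exact fun P => cond_of_prim P (H852.RatB.card_sylow_of_not_sq h23 h23' P) (by decide)
  · intro z hz
    have h1 := orderOf_of_sc (by norm_num) (H293.DS.sc23 h) (z := z) (by rw [hz]; norm_num)
    rw [hz] at h1
    exact absurd h1 (by norm_num)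
  · refine H494.B0R.Fi24_17_23 (card_eq h) ?_
    intro g d hd
    rw [List.mem_singleton] at hd
    subst hd
    exact not_91_dvd h g

/-- rank 3, `p` divides the degree and `|G|` exactly once -/
theorem rowZ_of_r3 {p : ℕ} [hp : Fact p.Prime] (hp2 : p ≠ 2) {G : Type u} [Group G] [Finite G] {X : Type*}
    [MulAction G X] {R : X → X → Prop} {k l : ℕ} (h : H690.Spor.RankThree.R3 G X R k l) (hd : p ∣ 1 + k + l)
    (hc : H968.Imc.chkP k l (fun a b => decide (a ≠ 1) && decide (b ≠ 1)) = true)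
    (hG : p ∣ Nat.card G) (hG2 : ¬ p ^ 2 ∣ Nat.card G) : RowZ p G := by
  obtain ⟨P⟩ : Nonempty (Sylow p G) := inferInstance
  refine H852.RatB.rowZ_of_ratB hp2 P (H852.RatB.card_sylow_of_not_sq hG hG2 P) fun M hM => ?_
  have hX : Finite X := Nat.finite_of_card_ne_zero (by rw [h.cardn]; omega)
  have htr := h.trans
  obtain ⟨χ₁, χ₂, h1, h2, h3, h4⟩ := H968.Imc.exists_pair h _ hc
  rw [Bool.and_eq_true, decide_eq_true_eq, decide_eq_true_eq] at h4
  obtain ⟨i, hi1, hi2⟩ := H968.Rat.exists_of_dvd hM (X := X) (by rw [h.cardn]; exact hd) ![χ₁, χ₂] fun g => by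
    rw [h3 g, Fin.sum_univ_two]
    simp only [Matrix.cons_val_zero, Matrix.cons_val_one]
    ring
  have hrat : ∀ {z : ℂ}, (∃ k : ℤ, z = k) → ∃ r : ℚ, z = r := by
    rintro z ⟨k, rfl⟩
    exact ⟨(k : ℚ), by push_cast; rfl⟩
  have hi : i = 0 ∨ i = 1 := by fin_cases i <;> simp
  rcases hi with rfl | rfl
  · exact ⟨χ₁, hi1, H968.Rat.ne_one_of_deg h4.1, fun g => hrat (h1 g)⟩
  · exact ⟨χ₂, hi1, H968.Rat.ne_one_of_deg h4.2, fun g => hrat (h2 g)⟩

theorem row_29' : RowZ 29 Spor.Fi24' := by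
  have hfin : Finite Spor.Fi24' := Cfsg.Agent.H30.GraphFi24.finite_Fi24'
  have h29 : Fact (Nat.Prime 29) := ⟨by norm_num⟩
  have hcard : Nat.card Spor.Fi24' = 1255205709190661721292800 := Cfsg.Agent.R08.FiTwentyFour.card_commutator
  exact @rowZ_of_r3 29 h29 (by norm_num) Spor.Fi24' _ _ _ Cfsg.Agent.H30.GraphFi24.act _ _ _
    Cfsg.Agent.H30.GraphFi24.r3 (by norm_num) (by decide +kernel) (by rw [hcard]; norm_num)
    (by rw [hcard]; norm_num)

theorem row_29 {T : Type u} [Group T] [Finite T] (h : Spor.IsoFi24' T) : RowZ 29 T := by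
  obtain ⟨e⟩ := h
  exact H646.BR.rowZ_congr e row_29'

end Cfsg.Agent.H713.B0R.FiTF
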