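import Mathlib

/-!
# An element of order 7 acting on an elementary abelian group of order `3^7` (helper713)
-/

set_option autoImplicit false

namespace Cfsg.Agent.H713.B0R.Abs7

open Subgroup

variable {G : Type*} [Group G] [Finite G]

/-- fixed points of an element of prime power order on a subgroup -/
theorem card_fix {p n : ℕ} [Fact p.Prime] {g : G} (hg : orderOf g = p ^ n) {B : Subgroup G}
    (hB : ∀ b ∈ B, g * b * g⁻¹ ∈ B) :
    Nat.card B ≡ Nat.card ↥(B ⊓ centralizer ({g} : Set G)) [MOD p] := by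
  have hN : ∀ x ∈ zpowers g, ∀ b ∈ B, x * b * x⁻¹ ∈ B := by
    have h1 : ∀ m : ℕ, ∀ b ∈ B, g ^ m * b * (g ^ m)⁻¹ ∈ B := by
      intro m
      induction m with
      | zero => intro b hb; simpa using hb
      | succ m ih =>
        intro b hb
        have h2 := hB _ (ih b hb)
        have h3 : g ^ (m + 1) * b * (g ^ (m + 1))⁻¹ = g * (g ^ m * b * (g ^ m)⁻¹) * g⁻¹ := by
          rw [pow_succ']; group
        rw [h3]; exact h2
    intro x hx b hb
    obtain ⟨m, rfl⟩ := mem_powers_iff_mem_zpowers.2 hx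
    exact h1 m b hb
  let _ : MulAction (zpowers g) B :=
    { smul := fun x b => ⟨x * b * (x : G)⁻¹, hN x x.2 b b.2⟩
      one_smul := fun b => Subtype.ext (by show (1 : G) * b * (1 : G)⁻¹ = b; group)
      mul_smul := fun x y b => Subtype.ext (by
        show ((x * y : zpowers g) : G) * b * ((x * y : zpowers g) : G)⁻¹ = x * (y * b * (y : G)⁻¹) * (x : G)⁻¹
        rw [Subgroup.coe_mul]; group) }
  have hsm : ∀ (x : zpowers g) (b : B), ((x • b : B) : G) = x * b * (x : G)⁻¹ := fun _ _ => rfl
  have hp : IsPGroup p (zpowers g) := IsPGroup.of_card (n := n) (by rw [Nat.card_zpowers, hg])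
  have h1 := hp.card_modEq_card_fixedPoints B
  refine h1.trans ?_
  have e : MulAction.fixedPoints (zpowers g) B ≃ ↥(B ⊓ centralizer ({g} : Set G)) :=
    { toFun := fun b => ⟨(b : B), (b : B).2, mem_centralizer_singleton_iff.2 (by
        have h2 := congrArg Subtype.val (b.2 ⟨g, mem_zpowers g⟩)
        rw [hsm] at h2
        have h3 : g * ((b : B) : G) * g⁻¹ = ((b : B) : G) := h2
        exact (mul_inv_eq_iff_eq_mul.1 h3).symm)⟩
      invFun := fun b => ⟨⟨b, b.2.1⟩, fun x => Subtype.ext (by
        rw [hsm]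
        have h2 : Commute (b : G) g := mem_centralizer_singleton_iff.1 b.2.2
        obtain ⟨m, hm⟩ := x.2
        have h3 : g ^ m = (x : G) := hm
        have h4 : Commute (b : G) (x : G) := by rw [← h3]; exact h2.zpow_right m
        show (x : G) * b * (x : G)⁻¹ = b
        rw [← h4.eq, mul_inv_cancel_right])⟩
      left_inv := fun b => rfl
      right_inv := fun b => rfl }
  rw [Nat.card_congr e]

theorem pow3_mod {b : ℕ} (hb : b ≤ 7) (h : 3 ^ b ≡ 3 [MOD 7]) : b = 1 ∨ b = 7 := by
  unfold Nat.ModEq at h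
  interval_cases b <;> simp_all

/-- the structure of an elementary abelian group of order `3^7` with an element `s` of order 7 and a 3-element `y` with
`sy = ys` which centralize a nontrivial element `x` of `A` -/
theorem abs7 {A : Subgroup G} (hA : Nat.card A = 3 ^ 7) (hab : ∀ a ∈ A, ∀ b ∈ A, a * b = b * a)
    (hCA : ∀ g : G, (∀ a ∈ A, g * a = a * g) → g ∈ A) {s y x : G} (hs : orderOf s = 7)
    (hsA : ∀ a ∈ A, s * a * s⁻¹ ∈ A) (hyA : ∀ a ∈ A, y * a * y⁻¹ ∈ A) {n : ℕ} (hy : orderOf y = 3 ^ n)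
    (hx : x ∈ A) (hx1 : x ≠ 1) (hsx : s * x = x * s) (hyx : y * x = x * y) (hc : s * y = y * s) : y ∈ zpowers x := by
  have h7 : Fact (Nat.Prime 7) := ⟨by norm_num⟩
  have h3 : Fact (Nat.Prime 3) := ⟨by norm_num⟩
  have hdvd : ∀ B : Subgroup G, B ≤ A → ∃ k ≤ 7, Nat.card B = 3 ^ k := fun B hB => by
    have h1 := Subgroup.card_dvd_of_le hB
    rw [hA] at h1
    exact (Nat.dvd_prime_pow Nat.prime_three).1 h1
  have hs7 : orderOf s = 7 ^ 1 := by rw [hs, pow_one]
  have hsnA : s ∉ A := by
    intro h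
    have h1 := Subgroup.orderOf_dvd_natCard A h
    rw [hs, hA] at h1
    norm_num at h1
  -- `C_A(s)` has order 3
  set Z := A ⊓ centralizer ({s} : Set G) with hZ
  have hxZ : x ∈ Z := ⟨hx, mem_centralizer_singleton_iff.2 hsx.symm⟩
  have hZ3 : Nat.card Z = 3 := by
    obtain ⟨k, hk, hk'⟩ := hdvd Z inf_le_left
    have h1 := card_fix hs7 hsA
    rw [← hZ, hA, hk'] at h1
    have h2 : 3 ^ k ≡ 3 [MOD 7] := h1.symm.trans (by decide)
    rcases pow3_mod hk h2 with rfl | rfl
    · rw [hk', pow_one]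
    · exfalso
      have h4 : Z = A := Subgroup.eq_of_le_of_card_ge inf_le_left (by rw [hk', hA])
      apply hsnA
      refine hCA s fun a ha => ?_
      rw [← h4] at ha
      exact (mem_centralizer_singleton_iff.1 ha.2).symm
  have hzx : zpowers x = Z := by
    apply Subgroup.eq_of_le_of_card_ge
    · rw [zpowers_le]; exact hxZ
    · rw [hZ3]
      have h1 : Nat.card (zpowers x) ∣ 3 := by
        rw [← hZ3]
        exact Subgroup.card_dvd_of_le (by rw [zpowers_le]; exact hxZ)
      rcases (Nat.dvd_prime Nat.prime_three).1 h1 with h2 | h2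
      · exfalso
        apply hx1
        rw [Nat.card_zpowers, orderOf_eq_one_iff] at h2
        exact h2
      · rw [h2]
  -- a subgroup of `A` containing `x` and normalized by `s` has order `3` or is `A`
  have hinv : ∀ B : Subgroup G, B ≤ A → x ∈ B → (∀ b ∈ B, s * b * s⁻¹ ∈ B) → Nat.card B = 3 ∨ B = A := by
    intro B hB hxB hsB
    obtain ⟨k, hk, hk'⟩ := hdvd B hB
    have h1 := card_fix hs7 hsB
    have h2 : B ⊓ centralizer ({s} : Set G) = Z := by
      apply le_antisymm
      · exact inf_le_inf_right _ hB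
      · rw [← hzx, zpowers_le]
        exact ⟨hxB, hxZ.2⟩
    rw [h2, hZ3, hk'] at h1
    rcases pow3_mod hk h1 with rfl | rfl
    · left; rw [hk', pow_one]
    · right; exact Subgroup.eq_of_le_of_card_ge hB (by rw [hk', hA])
  -- `K = C_A(y)`
  set K := A ⊓ centralizer ({y} : Set G) with hK
  have hxK : x ∈ K := ⟨hx, mem_centralizer_singleton_iff.2 hyx.symm⟩
  have hsK : ∀ b ∈ K, s * b * s⁻¹ ∈ K := by
    intro b hb
    refine ⟨hsA b hb.1, mem_centralizer_singleton_iff.2 ?_⟩
    have h1 : Commute b y := mem_centralizer_singleton_iff.1 hb.2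
    have h2 : Commute s y := hc
    exact ((h2.mul_left h1).mul_left h2.inv_left).eq
  have hyinA : y ∈ A := by
    rcases hinv K inf_le_left hxK hsK with h | h
    · exfalso
      -- the image of `v ↦ [y, v]`
      let φ : A →* A :=
        { toFun := fun v => ⟨y * v * y⁻¹ * (v : G)⁻¹, A.mul_mem (hyA v v.2) (A.inv_mem v.2)⟩
          map_one' := Subtype.ext (by show y * (1 : G) * y⁻¹ * (1 : G)⁻¹ = 1; group)
          map_mul' := fun v w => Subtype.ext (by
            show y * ((v * w : A) : G) * y⁻¹ * ((v * w : A) : G)⁻¹ = y * v * y⁻¹ * (v : G)⁻¹ * (y * w * y⁻¹ * (w : G)⁻¹)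
            rw [Subgroup.coe_mul]
            have e1 := hab _ (hyA w w.2) _ (A.inv_mem v.2)
            have e2 := hab _ (A.inv_mem w.2) _ (A.inv_mem v.2)
            calc y * (v * w : G) * y⁻¹ * (v * w : G)⁻¹ = y * v * y⁻¹ * ((y * w * y⁻¹) * ((w : G)⁻¹ * (v : G)⁻¹)) := by group
              _ = y * v * y⁻¹ * ((y * w * y⁻¹) * (v : G)⁻¹ * (w : G)⁻¹) := by rw [e2]; group
              _ = y * v * y⁻¹ * ((v : G)⁻¹ * (y * w * y⁻¹) * (w : G)⁻¹) := by rw [e1]
              _ = _ := by group) }
      have hφ : ∀ v : A, ((φ v : A) : G) = y * v * y⁻¹ * (v : G)⁻¹ := fun _ => rfl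
      have hker : Nat.card φ.ker = 3 := by
        have h1 : φ.ker.map A.subtype = K := by
          ext v
          constructor
          · rintro ⟨w, hw, rfl⟩
            refine ⟨w.2, mem_centralizer_singleton_iff.2 ?_⟩
            have h2 := congrArg Subtype.val (MonoidHom.mem_ker.1 hw)
            rw [hφ, Subgroup.coe_one] at h2
            have h3 : y * (w : G) = w * y := by
              have h4 : y * (w : G) * y⁻¹ = w := mul_inv_eq_one.1 h2
              exact mul_inv_eq_iff_eq_mul.1 h4
            exact h3.symm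
          · intro hv
            refine ⟨⟨v, hv.1⟩, MonoidHom.mem_ker.2 (Subtype.ext ?_), rfl⟩
            rw [hφ, Subgroup.coe_one]
            have h2 : v * y = y * v := mem_centralizer_singleton_iff.1 hv.2
            show y * v * y⁻¹ * v⁻¹ = 1
            rw [← h2]; group
        rw [← h, ← h1]
        exact Nat.card_congr (φ.ker.equivMapOfInjective _ A.subtype_injective).toEquiv
      have hran : Nat.card φ.range = 3 ^ 6 := by
        have h1 := φ.ker.card_mul_index
        rw [Subgroup.index_ker, hker, hA] at h1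
        have h2 : (3 : ℕ) ^ 7 = 3 * 3 ^ 6 := by norm_num
        rw [h2] at h1
        exact Nat.eq_of_mul_eq_mul_left (by norm_num) h1
      set I := φ.range.map A.subtype with hI
      have hIc : Nat.card I = 3 ^ 6 := by
        rw [← hran]
        exact (Nat.card_congr (φ.range.equivMapOfInjective _ A.subtype_injective).toEquiv).symm
      have hIA : I ≤ A := by
        rintro _ ⟨w, -, rfl⟩
        exact w.2
      have hmI : ∀ b : G, b ∈ I ↔ ∃ v ∈ A, b = y * v * y⁻¹ * v⁻¹ := by
        intro b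
        constructor
        · rintro ⟨_, ⟨v, rfl⟩, rfl⟩
          exact ⟨v, v.2, rfl⟩
        · rintro ⟨v, hv, rfl⟩
          exact ⟨φ ⟨v, hv⟩, ⟨⟨v, hv⟩, rfl⟩, rfl⟩
      have hsI : ∀ b ∈ I, s * b * s⁻¹ ∈ I := by
        intro b hb
        obtain ⟨v, hv, rfl⟩ := (hmI b).1 hb
        refine (hmI _).2 ⟨s * v * s⁻¹, hsA v hv, ?_⟩
        have h2 : Commute s y := hc
        have e1 : s * y = y * s := hc
        have e2 : s * y⁻¹ = y⁻¹ * s := h2.inv_right.eq
        calc s * (y * v * y⁻¹ * v⁻¹) * s⁻¹ = (s * y) * v * y⁻¹ * v⁻¹ * s⁻¹ := by group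
          _ = (y * s) * v * y⁻¹ * v⁻¹ * s⁻¹ := by rw [e1]
          _ = y * (s * v * s⁻¹) * (s * y⁻¹) * v⁻¹ * s⁻¹ := by group
          _ = y * (s * v * s⁻¹) * (y⁻¹ * s) * v⁻¹ * s⁻¹ := by rw [e2]
          _ = _ := by group
      have hyI : ∀ b ∈ I, y * b * y⁻¹ ∈ I := by
        intro b hb
        obtain ⟨v, hv, rfl⟩ := (hmI b).1 hb
        exact (hmI _).2 ⟨y * v * y⁻¹, hyA v hv, by group⟩
      -- `C_I(s) = 1`
      have hCI : I ⊓ centralizer ({s} : Set G) = ⊥ := by
        have h1 := card_fix hs7 hsI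
        rw [hIc] at h1
        have h2 : I ⊓ centralizer ({s} : Set G) ≤ Z := inf_le_inf_right _ hIA
        have h4 := Subgroup.card_dvd_of_le h2
        rw [hZ3] at h4
        rcases (Nat.dvd_prime Nat.prime_three).1 h4 with h5 | h5
        · exact Subgroup.card_eq_one.1 h5
        · rw [h5] at h1
          exact absurd h1 (by decide)
      -- a fixed point of `y` on `I`
      have h1 := card_fix hy hyI
      rw [hIc] at h1
      have h2 : I ⊓ centralizer ({y} : Set G) = ⊥ := by
        rw [eq_bot_iff, ← hCI]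
        intro v hv
        have hvK : v ∈ K := ⟨hIA hv.1, hv.2⟩
        have hKZ : K = Z := by
          rw [← hzx]
          symm
          apply Subgroup.eq_of_le_of_card_ge
          · rw [zpowers_le]; exact hxK
          · rw [h, hzx, hZ3]
        rw [hKZ] at hvK
        exact ⟨hv.1, hvK.2⟩
      rw [h2, Subgroup.card_bot] at h1
      exact absurd h1 (by decide)
    · apply hCA
      intro a ha
      rw [← h] at ha
      exact (mem_centralizer_singleton_iff.1 ha.2).symm
  rw [hzx]
  exact ⟨hyinA, mem_centralizer_singleton_iff.2 hc.symm⟩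

end Cfsg.Agent.H713.B0R.Abs7
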