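import Cfsg.Agent.H843.One
import Cfsg.Agent.H13.RankFi24
import Cfsg.Agent.H839.Thirteen
import Cfsg.Agent.H568.RowTools
import Cfsg.Agent.H377.SporRow
import Cfsg.Agent.R08.TetBig

/-!
# `Fi₂₄'` has no element of order 91 (helper713)

`x = word xw` has order 13 and commutes with exactly 6 transpositions.  An element of order 7 commuting with `x`
commutes with these 6 transpositions; hence it lies in `C(l) = 2 × Fi₂₃`, which has no element of order 91.
-/

set_option autoImplicit false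
set_option linter.constructorNameAsVariable false
set_option maxRecDepth 100000

namespace Cfsg.Agent.H713.B0R.FiTF

open Cfsg Subgroup Cfsg.Agent.Fischer Cfsg.Agent.Lib.PermNet Cfsg.Agent.Lib.PermNetPt
open Cfsg.Agent.Fischer.Fi24RepDef Cfsg.Agent.Fischer.Fi24Rep
open Cfsg.Agent.Fischer.Fi24RepOrb (UG)
open Cfsg.Agent.Fischer.Fi24Spider (word_append word_cons word_nil)
open Cfsg.Agent.R08.FiTwentyFour (L finite_Fi24)
open Cfsg.Agent.KFacts.FiTF.Pts Cfsg.Agent.KFacts.FiTF.FixMask Cfsg.Agent.H843.Pat Cfsg.Agent.H843.Fi24N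
open Cfsg.Spor (Fi24 Fi23)
open Cfsg.Spor.Fi24 (Gen)

/-- a word of order 13 -/
def xw : List Gen := [.h, .i, .g, .b, .c, .f, .g, .e, .d, .g]

theorem chk13 : chkEq (rep 13 xw) [] = true := by decide +kernel

theorem sieve : Nat.beq (sv (nw xw false) bl UG) (msk [0, 23, 29451, 29731, 307840, 307872]) = true := by
  decide +kernel

theorem chk0 : chkPt (nw xw false) 0 0 = true := by decide +kernel

theorem chk1 : chkPt (nw xw false) 1 192 = true := by decide +kernel

theorem pow13 : word xw ^ 13 = 1 := by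
  have h := word_eq_of chk13
  rw [word_rep, word_nil] at h
  exact h

theorem ne_one : word xw ≠ 1 := by
  intro h
  have h1 : rho (word xw) 1 = 192 := rho_of_chkPt chk1
  rw [h, map_one rho] at h1
  exact absurd h1 (by norm_num)

theorem order13 : orderOf (word xw) = 13 := by
  have : Fact (Nat.Prime 13) := ⟨by norm_num⟩
  exact orderOf_eq_prime pow13 ne_one

theorem comm_l : word xw * gen .l = gen .l * word xw := ((isPt_gen .l).comm_iff _).2 (rho_of_chkPt chk0)

/-- an element of order 7 commuting with `x` commutes with `l` -/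
theorem comm_l_of {y : Fi24} (hy : orderOf y = 7) (hxy : y * word xw = word xw * y) : y * gen .l = gen .l * y := by
  have hc : ∀ i : ℕ, (y ^ i * gen .l * (y ^ i)⁻¹) * word xw = word xw * (y ^ i * gen .l * (y ^ i)⁻¹) := by
    intro i
    have h1 : Commute (y ^ i) (word xw) := (show Commute y (word xw) from hxy).pow_left i
    have h2 : Commute (gen .l) (word xw) := comm_l.symm
    exact ((h1.mul_left h2).mul_left h1.inv_left).eq
  have hm : ∀ i : ℕ, y ^ i * gen .l * (y ^ i)⁻¹ ∈ L := fun i => Cfsg.Agent.R08.FiTwentyFour.conj gen_l_mem _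
  choose f hf hfp using fun i : ℕ => sieve_mem (xw := xw) sieve (hm i) (hc i)
  have hlt : ([0, 23, 29451, 29731, 307840, 307872] : List ℕ).toFinset.card < (Finset.range 7).card := by decide
  obtain ⟨i, hi, j, hj, hij, he⟩ := Finset.exists_ne_map_eq_of_card_lt_of_maps_to hlt
    (f := f) (fun i _ => List.mem_toFinset.2 (hf i))
  have key : ∀ i j : ℕ, i < j → j < 7 → f i = f j → y * gen .l = gen .l * y := by
    intro i j hij hj he
    have h1 : y ^ i * gen .l * (y ^ i)⁻¹ = y ^ j * gen .l * (y ^ j)⁻¹ := (hfp i).inj (he ▸ hfp j)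
    obtain ⟨k, rfl⟩ : ∃ k, j = i + k := ⟨j - i, by omega⟩
    have h2 : y ^ k * gen .l = gen .l * y ^ k := by
      rw [pow_add] at h1
      have h3 : gen .l = y ^ k * gen .l * (y ^ k)⁻¹ := by
        have h4 : (y ^ i)⁻¹ * (y ^ i * gen .l * (y ^ i)⁻¹) * y ^ i =
            (y ^ i)⁻¹ * (y ^ i * y ^ k * gen .l * (y ^ i * y ^ k)⁻¹) * y ^ i := by rw [h1]
        calc gen .l = (y ^ i)⁻¹ * (y ^ i * gen .l * (y ^ i)⁻¹) * y ^ i := by group
          _ = (y ^ i)⁻¹ * (y ^ i * y ^ k * gen .l * (y ^ i * y ^ k)⁻¹) * y ^ i := h4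
          _ = _ := by group
      calc y ^ k * gen .l = (y ^ k * gen .l * (y ^ k)⁻¹) * y ^ k := by group
        _ = _ := by rw [← h3]
    have hk : Nat.Coprime (orderOf y) k := by
      rw [hy]
      have h7 : Nat.Prime 7 := by norm_num
      exact (Nat.Prime.coprime_iff_not_dvd h7).2 fun h => by
        have := Nat.le_of_dvd (by omega) h
        omega
    obtain ⟨m, hm⟩ := exists_pow_eq_self_of_coprime hk.symm
    have h3 : Commute (y ^ k) (gen .l) := h2
    have h4 := h3.pow_left m
    rw [hm] at h4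
    exact h4.eq
  rw [Finset.mem_range] at hi hj
  rcases Nat.lt_or_gt_of_ne hij with h | h
  · exact key i j h hj he
  · exact key j i h hi he.symm

theorem card_Fi24' : Nat.card Fi24 = 306936 * (2 * 4089470473293004800) := by
  rw [Cfsg.Agent.H13.RankFi24.card_Fi24]

/-- the centralizer of `l` has order `2 |Fi₂₃|` -/
theorem card_cent_l : Nat.card (centralizer ({gen .l} : Set Fi24)) = 2 * 4089470473293004800 := by
  have hfin : Finite Fi24 := finite_Fi24
  have h1 := Cfsg.Agent.R08.TetBig.orb (⊤ : Subgroup Fi24) (gen .l) L (fun y => by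
    constructor
    · intro hy
      obtain ⟨g, hg⟩ := isConj_iff.1 (show IsConj (gen .l) y from hy)
      exact ⟨g, mem_top g, hg⟩
    · rintro ⟨g, -, rfl⟩
      exact Cfsg.Agent.R08.FiTwentyFour.conj gen_l_mem g)
  rw [card_top, card_Fi24', R08.FiTwentyFour.ncard_L, top_inf_eq] at h1
  omega

/-- an element of odd order commuting with `l` comes from `Fi₂₃` -/
theorem exists_fi23 : ∃ φ : Fi23 →* Fi24, Function.Injective φ ∧
    ∀ z : Fi24, z * gen .l = gen .l * z → Odd (orderOf z) → z ∈ φ.range := by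
  have hfin : Finite Fi24 := finite_Fi24
  obtain ⟨φ, hφ, hφH, -⟩ := Cfsg.Agent.H13.RankFi24.exists_phi
  refine ⟨φ, hφ, fun z hz ho => ?_⟩
  set C := centralizer ({gen .l} : Set Fi24) with hC
  have hle : φ.range ≤ C := by
    intro w hw
    rw [hC, mem_centralizer_singleton_iff]
    have hw' : w ∈ Subgroup.closure (gen '' {x | x ≠ .k}) := by
      have h0 := hφH hw
      rwa [Cfsg.Agent.Fischer.Fi24RepOrb.H, Cfsg.Agent.Fischer.Fi24RepOrb.S1_eq] at h0
    exact Cfsg.Agent.Fischer.Fi24Class.comm_of_mem_closure {x | x ≠ .k} (fun h => h rfl) w hw'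
  have h97 := Cfsg.Agent.S1697.result
  have hcR : Nat.card φ.range = 4089470473293004800 := by
    rw [← Nat.card_congr (MonoidHom.ofInjective hφ).toEquiv]
    exact h97.2
  have hi : (φ.range.subgroupOf C).index = 2 := by
    have h3 := (φ.range.subgroupOf C).index_mul_card
    rw [Nat.card_congr (Subgroup.subgroupOfEquivOfLe hle).toEquiv, hcR, card_cent_l] at h3
    exact Nat.eq_of_mul_eq_mul_right (by norm_num) h3
  obtain ⟨k, hk⟩ := ho
  have hzC : z ^ (k + 1) ∈ C := C.pow_mem (mem_centralizer_singleton_iff.2 hz) _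
  have h4 := Subgroup.sq_mem_of_index_two hi ⟨z ^ (k + 1), hzC⟩
  have h5 : (z ^ (k + 1)) ^ 2 = z := by
    rw [← pow_mul, show (k + 1) * 2 = (2 * k + 1) + 1 by ring, pow_succ, ← hk, pow_orderOf_eq_one, one_mul]
  have h6 : (z ^ (k + 1)) ^ 2 ∈ φ.range := h4
  rwa [h5] at h6

/-- `Fi₂₃` has no commuting elements of orders 13 and 7 -/
theorem fi23_no {x y : Fi23} (hx : orderOf x = 13) (hy : orderOf y = 7) (hxy : x * y = y * x) : False := by
  obtain ⟨F, h1, -, -, h4, h5, h6, ⟨h7⟩⟩ := H839.Fi23.thirteen_main (zpowers x) (by rw [Nat.card_zpowers, hx])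
  have hN : Nat.card (normalizer ((zpowers x : Subgroup Fi23) : Set Fi23)) = 468 := by
    rw [← h6, H839.Count.card_sup_of_comm h5 h4, h1, Nat.card_congr h7.toEquiv, Nat.card_eq_fintype_card,
      Fintype.card_perm, Fintype.card_fin]
    decide
  have h2 : y ∈ centralizer ((zpowers x : Subgroup Fi23) : Set Fi23) := by
    rw [mem_centralizer_iff]
    rintro _ ⟨m, rfl⟩
    exact ((Commute.zpow_left (show Commute x y from hxy) m)).eq
  have h3 := Subgroup.orderOf_dvd_natCard _ (centralizer_le_normalizer _ h2)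
  rw [hy, hN] at h3
  exact absurd h3 (by norm_num)

/-- `Fi₂₄` has no commuting elements of orders 13 and 7 -/
theorem fi24_no {x y : Fi24} (hx : orderOf x = 13) (hy : orderOf y = 7) (hxy : x * y = y * x) : False := by
  have hfin : Finite Fi24 := finite_Fi24
  have h13 : Fact (Nat.Prime 13) := ⟨by norm_num⟩
  obtain ⟨P, hP⟩ := H377.SporRow.exists_cyclic (K := Fi24) (p := 13) (by rw [card_Fi24']; norm_num)
  obtain ⟨s, hs, -⟩ := H568.conj_of_cyclic P hP hx (word xw) order13
  obtain ⟨i, hi⟩ := hs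
  have hi' : (s * x * s⁻¹) ^ i = word xw := hi
  have hc' : Commute (s * y * s⁻¹) (s * x * s⁻¹) := by
    show s * y * s⁻¹ * (s * x * s⁻¹) = s * x * s⁻¹ * (s * y * s⁻¹)
    calc s * y * s⁻¹ * (s * x * s⁻¹) = s * (y * x) * s⁻¹ := by group
      _ = s * (x * y) * s⁻¹ := by rw [hxy]
      _ = _ := by group
  have hy' : orderOf (s * y * s⁻¹) = 7 := by rw [H568.orderOf_conj', hy]
  have h1 : (s * y * s⁻¹) * word xw = word xw * (s * y * s⁻¹) := by
    rw [← hi']
    exact (hc'.zpow_right i).eq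
  have h2 := comm_l_of hy' h1
  obtain ⟨φ, hφ, h3⟩ := exists_fi23
  obtain ⟨a, ha⟩ := h3 _ comm_l (by rw [order13]; decide)
  obtain ⟨b, hb⟩ := h3 _ h2 (by rw [hy']; decide)
  refine fi23_no (x := a) (y := b) ?_ ?_ ?_
  · rw [← orderOf_injective φ hφ, ha, order13]
  · rw [← orderOf_injective φ hφ, hb, hy']
  · apply hφ
    rw [map_mul, map_mul, ha, hb, h1]

/-- **`Fi₂₄'` has no element of order divisible by 91** -/
theorem not_91_dvd {T : Type*} [Group T] [Finite T] (h : Spor.IsoFi24' T) (z : T) : ¬ 91 ∣ orderOf z := by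
  obtain ⟨e⟩ := h
  intro hz
  have h0 : orderOf z ≠ 0 := (orderOf_pos z).ne'
  have h1 : orderOf (z ^ (orderOf z / 13)) = 13 := orderOf_pow_orderOf_div h0 (dvd_trans (by norm_num) hz)
  have h2 : orderOf (z ^ (orderOf z / 7)) = 7 := orderOf_pow_orderOf_div h0 (dvd_trans (by norm_num) hz)
  have h3 : Commute (z ^ (orderOf z / 13)) (z ^ (orderOf z / 7)) := (Commute.refl z).pow_pow _ _
  refine fi24_no (x := (e (z ^ (orderOf z / 13)) : Fi24)) (y := (e (z ^ (orderOf z / 7)) : Fi24)) ?_ ?_ ?_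
  · rw [Subgroup.orderOf_coe, MulEquiv.orderOf_eq, h1]
  · rw [Subgroup.orderOf_coe, MulEquiv.orderOf_eq, h2]
  · exact congrArg Subtype.val (h3.map e).eq

end Cfsg.Agent.H713.B0R.FiTF
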